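import Cfsg.Agent.H671.H5Facts
import Cfsg.Agent.H670.PSolv
import Cfsg.Agent.H670.Bound
import Cfsg.Agent.H33.IM
import Cfsg.Agent.Blocks.BlockKer
import Cfsg.Agent.Lib.MinNormalNonabelian
import Cfsg.Agent.Lib.SubnormalJoin
import Cfsg.Agent.H596.OneFacts
import Cfsg.Prelude.Def_Classification2
import Mathlib
import Cfsg.Agent.ClassicalGeometry.PSL2ElemOrder
import Cfsg.Agent.ClassicalGeometry.PSL2Basic
import Cfsg.Agent.SmallSimple.PSLTwoPart
import Cfsg.Agent.FastGrp
import Cfsg.Agent.Prune
set_option linter.all false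

section
prune_inst 0x7f00000000000000000000000000000000000000000000000000000000000000000000000000000000000000000000000000000000000000000000000000000000000000000000000000000000000000003fffffffffffffffffffffffffffbeffbdffffffff

-- part: H596/DerLen
section
set_option linter.all false
open scoped Cfsg.Agent.FastGrp

/-!
# The derived length of a Sylow subgroup and the characters of degree divisible by `p` (helper596)

Reduction of the bound `dl(P) ≤ nSing p G + 1` to the finite simple groups (hub H5, task 383).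

* `FactDl` : the simple group fact (= S4769);
* `dser` : the derived series of a subgroup, as a series of subgroups;
* `exists_finset` : `N` a minimal normal subgroup of `G`, `K` a maximal normal subgroup of `N`, `N ⧸ K` not
  abelian: the irreducible characters of `N ⧸ K` of degree divisible by `p` are covered, up to
  automorphisms, by a set of `nSing p G - nSing p (G ⧸ N)` functions;
* `bound_step_nonabelian` : the inductive step for a nonabelian minimal normal subgroup;
* `red` : the reduction.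
-/

set_option autoImplicit false

open Cfsg
open scoped commutatorElement

namespace Cfsg.Agent.H596.DerLen

open Cfsg.Agent.Characters.Core Cfsg.Agent.OddOrderCharacters.IndRes Cfsg.Agent.H671.H5
  Cfsg.Agent.Blocks.Knorr Cfsg.Agent.H670.PSing

universe u

/-- The bound for the derived length of the Sylow subgroups of simple groups (= S4769). -/
def FactDl : Prop := ∀ (S : Type u) [Group S] [Finite S] [IsSimpleGroup S], ¬ IsMulCommutative S →
  ∀ (p : ℕ) [Fact p.Prime], p ∣ Nat.card S → ∀ (P : Sylow p S) (T : Finset (S → ℂ)),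
  (∀ χ : Cfsg.IrrCharacter S, p ∣ Cfsg.charDegree (χ : S → ℂ) →
    ∃ ψ ∈ T, ∃ σ : S ≃* S, ∀ g : S, (χ : S → ℂ) g = ψ (σ g)) →
  derivedSeries ↥(P : Subgroup S) T.card = ⊥

section Derived

variable {H L : Type*} [Group H] [Group L]

/-- The derived series of a subgroup. -/
def dser (A : Subgroup H) : ℕ → Subgroup H
  | 0 => A
  | n + 1 => ⁅dser A n, dser A n⁆

theorem dser_zero (A : Subgroup H) : dser A 0 = A := rfl

theorem dser_succ (A : Subgroup H) (n : ℕ) : dser A (n + 1) = ⁅dser A n, dser A n⁆ := rfl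

theorem dser_mono {A B : Subgroup H} (h : A ≤ B) (n : ℕ) : dser A n ≤ dser B n := by
  induction n with
  | zero => exact h
  | succ n ih => exact Subgroup.commutator_mono ih ih

theorem dser_map (f : H →* L) (A : Subgroup H) (n : ℕ) : (dser A n).map f = dser (A.map f) n := by
  induction n with
  | zero => rfl
  | succ n ih => rw [dser_succ, dser_succ, Subgroup.map_commutator, ih]

theorem dser_add (A : Subgroup H) (m n : ℕ) : dser A (m + n) = dser (dser A m) n := by
  induction n with
  | zero => rfl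
  | succ n ih => rw [← add_assoc, dser_succ, dser_succ, ih]

theorem map_derivedSeries (A : Subgroup H) (n : ℕ) :
    (derivedSeries ↥A n).map A.subtype = dser A n := by
  induction n with
  | zero =>
    rw [derivedSeries_zero, dser_zero, ← MonoidHom.range_eq_map, Subgroup.range_subtype]
  | succ n ih => rw [derivedSeries_succ, Subgroup.map_commutator, ih, dser_succ]

theorem derivedSeries_eq_bot_iff (A : Subgroup H) (n : ℕ) :
    derivedSeries ↥A n = ⊥ ↔ dser A n = ⊥ := by
  rw [← map_derivedSeries, Subgroup.map_eq_bot_iff_of_injective _ A.subtype_injective]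

theorem dser_antitone (A : Subgroup H) {m n : ℕ} (h : m ≤ n) : dser A n ≤ dser A m := by
  rw [← map_derivedSeries, ← map_derivedSeries]
  exact Subgroup.map_mono (derivedSeries_antitone _ h)

end Derived

section

variable {G : Type u} [Group G] [Finite G] {p : ℕ}

/-- A `p`-subgroup of the minimal normal subgroup `N`: derived length bounded by that of the Sylow
`p`-subgroups of `N ⧸ K`. -/
theorem dser_eq_bot [hp : Fact p.Prime] (N : Subgroup G) [hN : N.Normal]
    (hmin : ∀ M : Subgroup G, M.Normal → M ≤ N → M = ⊥ ∨ M = N)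
    (K : Subgroup N) [K.Normal] (hK : K ≠ ⊤) {d : ℕ}
    (hd : ∀ R : Sylow p (N ⧸ K), derivedSeries ↥(R : Subgroup (N ⧸ K)) d = ⊥)
    (B : Subgroup G) (hB : IsPGroup p B) (hBN : B ≤ N) : dser B d = ⊥ := by
  -- the core of `K`
  let D : Subgroup G := (K.map N.subtype).normalCore
  have hDle : D ≤ K.map N.subtype := Subgroup.normalCore_le _
  have hDb : D = ⊥ := by
    rcases hmin D inferInstance (hDle.trans (Subgroup.map_subtype_le K)) with h | h
    · exact h
    · exfalso
      apply hK
      rw [eq_top_iff]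
      intro x _
      have h1 : (x : G) ∈ D := by rw [h]; exact x.2
      obtain ⟨y, hy, hyx⟩ := hDle h1
      have : y = x := Subtype.ext hyx
      exact this ▸ hy
  rw [eq_bot_iff, ← hDb]
  intro x hx g
  have hBN' : (B.subgroupOf N).map N.subtype = B := by
    rw [Subgroup.subgroupOf_map_subtype]; exact inf_eq_left.2 hBN
  rw [← hBN', ← dser_map] at hx
  obtain ⟨y, hy, rfl⟩ := hx
  refine ⟨MulAut.conjNormal g y, ?_, by simp⟩
  let f : N →* (N ⧸ K) := (QuotientGroup.mk' K).comp (MulAut.conjNormal g : MulAut N).toMonoidHom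
  have hpg : IsPGroup p ((B.subgroupOf N).map f) := by
    refine IsPGroup.map ?_ f
    exact hB.of_equiv (Subgroup.subgroupOfEquivOfLe hBN).symm
  obtain ⟨R, hR⟩ := hpg.exists_le_sylow
  have h1 : f y ∈ dser ((B.subgroupOf N).map f) d := by
    rw [← dser_map]
    exact Subgroup.mem_map_of_mem f hy
  have h2 := dser_mono hR d h1
  rw [(derivedSeries_eq_bot_iff _ _).1 (hd R), Subgroup.mem_bot] at h2
  exact (QuotientGroup.eq_one_iff _).1 h2

/-- A nontrivial irreducible character of a simple group is faithful. -/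
theorem faithful_of_simple {S : Type u} [Group S] [Finite S] [IsSimpleGroup S] {θ : S → ℂ}
    (hθ : IsIrrCharacter S θ) (hne : θ ≠ 1) {x : S} (hx : θ x = θ 1) : x = 1 := by
  classical
  have : Fintype S := Fintype.ofFinite S
  obtain ⟨K, hK, hKmem⟩ := Blocks.BlockKer.exists_kernel hθ
  rcases hK.eq_bot_or_eq_top with h | h
  · have h1 := (hKmem x).2 hx
    rwa [h, Subgroup.mem_bot] at h1
  · exfalso
    have h1 : θ = θ 1 • (1 : S → ℂ) := by
      funext g
      have h2 := (hKmem g).1 (by rw [h]; trivial)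
      rw [Pi.smul_apply, Pi.one_apply, smul_eq_mul, mul_one, h2]
    have h2 : classInner θ (1 : S → ℂ) = 0 := classInner_irr_ne hθ isIrr_one hne
    rw [h1, classInner_smul_left, classInner_irr_self isIrr_one, mul_one] at h2
    exact isIrr_apply_one_ne_zero hθ h2

/-- The covering set. -/
theorem exists_finset [hp : Fact p.Prime] (N : Subgroup G) [hN : N.Normal]
    (K : Subgroup N) [hKn : K.Normal] [IsSimpleGroup (N ⧸ K)] :
    ∃ T : Finset (N ⧸ K → ℂ), T.card + nSing p (G ⧸ N) ≤ nSing p G ∧
      ∀ χ : Cfsg.IrrCharacter (N ⧸ K), p ∣ Cfsg.charDegree (χ : N ⧸ K → ℂ) →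
        ∃ ψ ∈ T, ∃ σ : (N ⧸ K) ≃* (N ⧸ K), ∀ g : N ⧸ K, (χ : N ⧸ K → ℂ) g = ψ (σ g) := by
  classical
  have : Fintype G := Fintype.ofFinite G
  have : Fintype N := Fintype.ofFinite N
  have : Finite (IrrCharacter G) := finite_irr
  let X := {χ : IrrCharacter G // p ∣ charDegree (χ : G → ℂ)}
  have : Fintype X := Fintype.ofFinite X
  let Y : Finset X := Finset.univ.filter fun χ => ∃ n ∈ N, (χ.1 : G → ℂ) n ≠ (χ.1 : G → ℂ) 1
  -- the function on characters
  let R : X → (N ⧸ K → ℂ) → Prop := fun χ θ => IsIrrCharacter (N ⧸ K) θ ∧ θ ≠ 1 ∧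
    classInner (res N (χ.1 : G → ℂ)) (θ ∘ (QuotientGroup.mk' K)) ≠ 0
  let Φ : X → (N ⧸ K → ℂ) := fun χ => if h : ∃ θ, R χ θ then h.choose else 0
  refine ⟨Y.image Φ, ?_, ?_⟩
  · -- counting
    have h1 : (Y.image Φ).card ≤ Y.card := Finset.card_image_le
    have h2 : nSing p (G ⧸ N) ≤ (Finset.univ \ Y).card := by
      have : Finite (IrrCharacter (G ⧸ N)) := finite_irr
      rw [nSing, ← Fintype.card_coe, ← Nat.card_eq_fintype_card]
      refine Nat.card_le_card_of_injective
        (fun χ => (⟨inflSing p N χ, ?_⟩ : (Finset.univ \ Y : Finset X))) ?_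
      · rw [Finset.mem_sdiff]
        refine ⟨Finset.mem_univ _, ?_⟩
        intro h
        obtain ⟨-, n, hn, h3⟩ := Finset.mem_filter.1 h
        apply h3
        have h4 : QuotientGroup.mk' N n = 1 := (QuotientGroup.eq_one_iff n).2 hn
        rw [inflSing_apply, inflSing_apply, map_one, h4]
      · intro χ ψ h
        exact inflSing_injective N (congrArg Subtype.val h)
    have h3 : (Finset.univ \ Y).card + Y.card = nSing p G := by
      rw [Finset.card_sdiff_add_card_eq_card (Finset.subset_univ Y), Finset.card_univ, nSing,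
        Nat.card_eq_fintype_card]
    omega
  · intro θ hθ
    have hθN : IsIrrCharacter N ((θ : N ⧸ K → ℂ) ∘ (QuotientGroup.mk' K)) :=
      isIrr_comp (QuotientGroup.mk' K) (QuotientGroup.mk'_surjective K) θ.2
    have hdegN : charDegree ((θ : N ⧸ K → ℂ) ∘ (QuotientGroup.mk' K)) =
        charDegree (θ : N ⧸ K → ℂ) := by
      apply charDegree_eq_of
      show (θ : N ⧸ K → ℂ) (QuotientGroup.mk' K 1) = _
      rw [map_one, charDegree_eq θ.2]
    have hθne : (θ : N ⧸ K → ℂ) ≠ 1 := by
      intro h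
      have h1 : charDegree (θ : N ⧸ K → ℂ) = 1 := by
        apply charDegree_eq_of
        rw [h]; simp
      rw [h1] at hθ
      exact hp.out.one_lt.ne' (Nat.dvd_one.1 hθ)
    have hne : (θ : N ⧸ K → ℂ) ∘ (QuotientGroup.mk' K) ≠ 1 := by
      intro h
      apply hθne
      funext x
      obtain ⟨n, rfl⟩ := QuotientGroup.mk'_surjective K x
      exact congrFun h n
    obtain ⟨χ, hχ⟩ := Blocks.Over.exists_over N ⟨_, hθN⟩
    have hχd : p ∣ charDegree (χ : G → ℂ) := by
      refine hθ.trans ?_
      rw [← hdegN]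
      exact degree_dvd_of_over N hθN χ.2 hχ
    have hχY : (⟨χ, hχd⟩ : X) ∈ Y :=
      Finset.mem_filter.2 ⟨Finset.mem_univ _, exists_ne_of_over N hθN hne hχ⟩
    have hex : ∃ θ', R ⟨χ, hχd⟩ θ' := ⟨θ, θ.2, hθne, hχ⟩
    have hΦ : R ⟨χ, hχd⟩ (Φ ⟨χ, hχd⟩) := by
      show R _ (if h : ∃ θ, R ⟨χ, hχd⟩ θ then h.choose else 0)
      rw [dif_pos hex]
      exact hex.choose_spec
    refine ⟨Φ ⟨χ, hχd⟩, Finset.mem_image_of_mem Φ hχY, ?_⟩
    obtain ⟨h1, h2, h3⟩ := hΦ
    set θ' := Φ ⟨χ, hχd⟩ with hθ'
    have hθN' : IsIrrCharacter N (θ' ∘ (QuotientGroup.mk' K)) :=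
      isIrr_comp (QuotientGroup.mk' K) (QuotientGroup.mk'_surjective K) h1
    obtain ⟨g, hg⟩ := Characters.Clifford.exists_conj_of_constituents N χ.2 hθN' hθN h3 hχ
    have hval : ∀ n : N, (θ : N ⧸ K → ℂ) (QuotientGroup.mk' K n) =
        θ' (QuotientGroup.mk' K (MulAut.conjNormal g n)) := fun n => congrFun hg n
    have hmem : ∀ n : N, n ∈ K ↔ (MulAut.conjNormal g : MulAut N) n ∈ K := by
      intro n
      constructor
      · intro hn
        have h4 := hval n
        have h5 : QuotientGroup.mk' K n = 1 := (QuotientGroup.eq_one_iff n).2 hn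
        have h6 := hval 1
        rw [h5, ← map_one (QuotientGroup.mk' K), h6, map_one, map_one] at h4
        exact (QuotientGroup.eq_one_iff _).1 (faithful_of_simple h1 h2 h4.symm)
      · intro hn
        have h4 := hval n
        have h5 : QuotientGroup.mk' K (MulAut.conjNormal g n) = 1 :=
          (QuotientGroup.eq_one_iff _).2 hn
        have h6 := hval 1
        rw [map_one, map_one, map_one] at h6
        rw [h5, ← h6] at h4
        exact (QuotientGroup.eq_one_iff _).1 (faithful_of_simple θ.2 hθne h4)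
    have hmap : K.map ((MulAut.conjNormal g : MulAut N).toMonoidHom) = K := by
      ext x
      constructor
      · rintro ⟨y, hy, rfl⟩
        exact (hmem y).1 hy
      · intro hx
        refine ⟨(MulAut.conjNormal g : MulAut N).symm x, (hmem _).2 ?_, ?_⟩
        · rw [MulEquiv.apply_symm_apply]; exact hx
        · exact MulEquiv.apply_symm_apply _ x
    refine ⟨QuotientGroup.congr K K (MulAut.conjNormal g : MulAut N) hmap, ?_⟩
    intro x
    obtain ⟨n, rfl⟩ := QuotientGroup.mk'_surjective K x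
    exact hval n

/-- Each nontrivial finite group has a maximal normal subgroup. -/
theorem exists_maximal_normal (N : Type u) [Group N] [Finite N] [Nontrivial N] :
    ∃ K : Subgroup N, ∃ _ : K.Normal, K ≠ ⊤ ∧ IsSimpleGroup (N ⧸ K) := by
  have hfin : Set.Finite {L : Subgroup N | L.Normal ∧ L ≠ ⊤} := Set.toFinite _
  obtain ⟨K, hK⟩ := hfin.exists_maximal ⟨⊥, inferInstance, bot_ne_top⟩
  have hKn : K.Normal := hK.prop.1
  refine ⟨K, hKn, hK.prop.2, ?_⟩
  have hnt : Nontrivial (N ⧸ K) := by
    by_contra h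
    rw [not_nontrivial_iff_subsingleton] at h
    exact hK.prop.2 (QuotientGroup.subgroup_eq_top_of_subsingleton K h)
  refine ⟨fun L hL => ?_⟩
  by_cases h : L.comap (QuotientGroup.mk' K) = ⊤
  · right
    rw [eq_top_iff]
    intro x _
    obtain ⟨n, rfl⟩ := QuotientGroup.mk'_surjective K x
    have h1 : n ∈ L.comap (QuotientGroup.mk' K) := by rw [h]; trivial
    exact h1
  · left
    have h1 : K ≤ L.comap (QuotientGroup.mk' K) := by
      intro k hk
      have h2 : QuotientGroup.mk' K k = 1 := (QuotientGroup.eq_one_iff k).2 hk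
      rw [Subgroup.mem_comap, h2]
      exact L.one_mem
    have h2 : L.comap (QuotientGroup.mk' K) ≤ K := hK.le_of_ge ⟨hL.comap _, h⟩ h1
    rw [eq_bot_iff]
    intro x hx
    obtain ⟨n, rfl⟩ := QuotientGroup.mk'_surjective K x
    exact (QuotientGroup.eq_one_iff n).2 (h2 hx)

/-- The inductive step for a nonabelian minimal normal subgroup. -/
theorem bound_step_nonabelian [hp : Fact p.Prime] (hDl : FactDl.{u}) (N : Subgroup G) [hN : N.Normal]
    (hN1 : N ≠ ⊥) (hmin : ∀ M : Subgroup G, M.Normal → M ≤ N → M = ⊥ ∨ M = N)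
    (hna : ¬ ∀ x ∈ N, ∀ y ∈ N, Commute x y) (hpN : p ∣ Nat.card N)
    (ih : ∀ Q : Sylow p (G ⧸ N), derivedSeries ↥(Q : Subgroup (G ⧸ N)) (nSing p (G ⧸ N) + 1) = ⊥)
    (P : Sylow p G) : derivedSeries ↥(P : Subgroup G) (nSing p G + 1) = ⊥ := by
  have : Nontrivial N := (Subgroup.nontrivial_iff_ne_bot N).2 hN1
  obtain ⟨K, hKn, hKt, hKs⟩ := exists_maximal_normal N
  have hnc : ¬ IsMulCommutative (N ⧸ K) := by
    intro hc
    have h1 : commutator N ≤ K := by
      rw [commutator_def, Subgroup.commutator_le]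
      intro a _ b _
      rw [← QuotientGroup.eq_one_iff]
      have h2 := hc.is_comm.comm (QuotientGroup.mk' K a) (QuotientGroup.mk' K b)
      show QuotientGroup.mk' K ⁅a, b⁆ = 1
      rw [map_commutatorElement, commutatorElement_eq_one_iff_mul_comm]
      exact h2
    have h2 : ((commutator N).map N.subtype).Normal :=
      ConjAct.normal_of_characteristic_of_normal
    rcases hmin _ h2 (Subgroup.map_subtype_le _) with h3 | h3
    · apply hna
      intro x hx y hy
      rw [Subgroup.map_eq_bot_iff_of_injective _ N.subtype_injective] at h3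
      have h4 : ⁅(⟨x, hx⟩ : N), ⟨y, hy⟩⁆ ∈ commutator N :=
        Subgroup.commutator_mem_commutator (Subgroup.mem_top _) (Subgroup.mem_top _)
      rw [h3, Subgroup.mem_bot, commutatorElement_eq_one_iff_mul_comm] at h4
      exact congrArg Subtype.val h4
    · apply hKt
      rw [eq_top_iff]
      intro x _
      have h4 : (x : G) ∈ (commutator N).map N.subtype := by rw [h3]; exact x.2
      obtain ⟨y, hy, hyx⟩ := h4
      have h5 : y = x := Subtype.ext hyx
      exact h1 (h5 ▸ hy)
  have hpK : p ∣ Nat.card (N ⧸ K) := by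
    by_contra hcon
    obtain ⟨x, hx⟩ := exists_prime_orderOf_dvd_card' (G := N) p hpN
    have h1 : IsPGroup p (Subgroup.zpowers (x : G)) := by
      apply IsPGroup.of_card (n := 1)
      rw [Nat.card_zpowers, Subgroup.orderOf_coe, hx, pow_one]
    have h2 := dser_eq_bot (d := 0) N hmin K hKt (fun R => by
      have h3 : Nat.card R = 1 := by
        obtain ⟨k, hk⟩ := (IsPGroup.iff_card (p := p)).1 R.isPGroup'
        rcases Nat.eq_zero_or_pos k with h0 | h0
        · rw [hk, h0, pow_zero]
        · exact absurd ((dvd_pow_self p h0.ne').trans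
            (hk ▸ Subgroup.card_subgroup_dvd_card (R : Subgroup (N ⧸ K)))) hcon
      have h4 : Subsingleton R := (Nat.card_eq_one_iff_unique.1 h3).1
      exact Subsingleton.elim _ _) _ h1 (by
        rw [Subgroup.zpowers_le]; exact x.2)
    rw [dser_zero, Subgroup.zpowers_eq_bot] at h2
    rw [← Subgroup.orderOf_coe, h2, orderOf_one] at hx
    exact hp.out.one_lt.ne hx
  obtain ⟨T, hT1, hT2⟩ := exists_finset (p := p) N K
  have hd : ∀ R : Sylow p (N ⧸ K), derivedSeries ↥(R : Subgroup (N ⧸ K)) T.card = ⊥ :=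
    fun R => hDl (N ⧸ K) hnc p hpK R T hT2
  have h1 := derivedSeries_le_of_quotient N P (ih _)
  have h2 : dser (P : Subgroup G) (nSing p (G ⧸ N) + 1) ≤ N := by
    rw [← map_derivedSeries]
    rintro _ ⟨x, hx, rfl⟩
    exact h1 hx
  have h3 : IsPGroup p (dser (P : Subgroup G) (nSing p (G ⧸ N) + 1)) :=
    P.isPGroup'.to_le (dser_antitone (P : Subgroup G) (Nat.zero_le _))
  have h4 := dser_eq_bot N hmin K hKt hd _ h3 h2
  rw [← dser_add] at h4
  rw [derivedSeries_eq_bot_iff, eq_bot_iff, ← h4]
  exact dser_antitone _ (by omega)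

/-- A finite group all of whose irreducible characters have degree prime to `p` is `p`-solvable. -/
theorem isPSolvable_of_fact [hp : Fact p.Prime] (hIM : FactIM.{u}) (n : ℕ) :
    ∀ (G : Type u) [Group G] [Finite G], Nat.card G ≤ n → ¬ H33.IM p G → IsPSolvable p G := by
  induction n with
  | zero =>
    intro G _ _ hn
    exact absurd hn (by have := Nat.card_pos (α := G); omega)
  | succ n ih =>
    intro G _ _ hn hG
    by_cases hc : IsMulCommutative G
    · have : Group.IsSolvable G := by
        apply Group.isSolvable_of_comm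
        exact fun a b => hc.is_comm.comm a b
      exact Lib.PSolvable.IsPSolvable_of_solvable p
    by_cases hs : IsSimpleGroup G
    · by_cases hd : p ∣ Nat.card G
      · exact absurd (hIM G hc p hp.out hd) hG
      · exact PLocal.PSolvable.isPSolvable_of_coprime
          ((Nat.Prime.coprime_iff_not_dvd hp.out).2 hd).symm
    have hnt : Nontrivial G := by
      by_contra h
      rw [not_nontrivial_iff_subsingleton] at h
      exact hc ⟨⟨fun a b => Subsingleton.elim _ _⟩⟩
    obtain ⟨N, hN, hNb, hNt⟩ : ∃ N : Subgroup G, N.Normal ∧ N ≠ ⊥ ∧ N ≠ ⊤ := by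
      by_contra hcon
      push Not at hcon
      exact hs ⟨fun N hN => by
        by_cases h : N = ⊥
        · exact Or.inl h
        · exact Or.inr (hcon N hN h)⟩
    -- `N` is `p`-solvable
    have hNc : Nat.card N ≤ n := by
      have h1 : Nat.card N < Nat.card G := by
        refine lt_of_le_of_ne (Subgroup.card_le_card_group N) fun h => hNt ?_
        exact Subgroup.eq_top_of_card_eq N h
      omega
    have hNs := ih N hNc (fun h => hG (h.of_normal N))
    have hNbt : (⊥ : Subgroup N) < ⊤ := by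
      rw [bot_lt_iff_ne_bot]
      intro h
      apply hNb
      rw [Subgroup.eq_bot_iff_forall]
      intro x hx
      have h1 : (⟨x, hx⟩ : N) ∈ (⊤ : Subgroup N) := trivial
      rw [h, Subgroup.mem_bot] at h1
      exact congrArg Subtype.val h1
    obtain ⟨L, hL, hL1, -, hL2⟩ := Lib.PSolvable.sep_of_pSolvable p hNs ⊥ ⊤ inferInstance inferInstance
      hNbt
    rw [Subgroup.relIndex_bot_left] at hL2
    -- a characteristic `p`- or `p'`-subgroup of `N`
    obtain ⟨R, hR, hRb, hR2⟩ : ∃ R : Subgroup G, R.Normal ∧ R ≠ ⊥ ∧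
        ((∃ m : ℕ, Nat.card R = p ^ m) ∨ (Nat.card R).Coprime p) := by
      rcases hL2 with ⟨m, hm⟩ | hc
      · have hch := Lib.Cores.pCore_characteristic (G := N) p
        refine ⟨(pCore p N).map N.subtype, ConjAct.normal_of_characteristic_of_normal, ?_,
          Or.inl ?_⟩
        · rw [Ne, Subgroup.map_eq_bot_iff_of_injective _ N.subtype_injective]
          intro h
          have h1 := Lib.Cores.le_pCore hL (IsPGroup.of_card hm)
          rw [h, le_bot_iff] at h1
          exact hL1.ne' h1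
        · exact (IsPGroup.iff_card (p := p)).1 ((Lib.Cores.pCore_isPGroup (G := N) p).map _)
      · have hch := Lib.Cores.pPrimeCore_characteristic (G := N) p
        refine ⟨(pPrimeCore p N).map N.subtype, ConjAct.normal_of_characteristic_of_normal, ?_,
          Or.inr ?_⟩
        · rw [Ne, Subgroup.map_eq_bot_iff_of_injective _ N.subtype_injective]
          intro h
          have h1 := Lib.Cores.le_pPrimeCore hL hc
          rw [h, le_bot_iff] at h1
          exact hL1.ne' h1
        · rw [Nat.card_congr ((pPrimeCore p N).equivMapOfInjective _ N.subtype_injective).toEquiv.symm]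
          exact Lib.Cores.pPrimeCore_coprime (G := N) p
    have hq : Nat.card (G ⧸ R) ≤ n := by
      have h1 := Subgroup.card_eq_card_quotient_mul_card_subgroup R
      have h2 : 1 < Nat.card R := by
        rw [Subgroup.one_lt_card_iff_ne_bot]; exact hRb
      have h3 : 0 < Nat.card (G ⧸ R) := Nat.card_pos
      nlinarith
    exact Lib.PSolvable.IsPSolvable_of_quotient p R hR2 (ih (G ⧸ R) hq fun h => hG (h.of_quotient R))

/-- The Itô-Michler theorem from the fact on simple groups. -/
theorem IM_of_fact [hp : Fact p.Prime] (hIM : FactIM.{u}) (X : Type u) [Group X] [Finite X] :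
    H670.PSing.IM p X := by
  intro h P
  have h1 : IsPSolvable p X := isPSolvable_of_fact hIM _ X le_rfl (by
    rw [H33.not_IM_iff]
    intro χ
    exact h χ χ.2)
  exact IM_of_pSolvable h1 h P

end

theorem red_aux {p : ℕ} [hp : Fact p.Prime] (hIM : FactIM.{u}) (hDl : FactDl.{u}) (n : ℕ) :
    ∀ (G : Type u) [Group G] [Finite G], Nat.card G ≤ n →
      ∀ P : Sylow p G, derivedSeries ↥(P : Subgroup G) (nSing p G + 1) = ⊥ := by
  induction n with
  | zero =>
    intro G _ _ hn
    exact absurd hn (by have := Nat.card_pos (α := G); omega)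
  | succ n ih =>
    intro G _ _ hn P
    rcases subsingleton_or_nontrivial G with hs | hnt
    · exact Subsingleton.elim _ _
    obtain ⟨N, hN, hN1, hmin⟩ := Lib.SubnormalJoin.exists_minimal_normal G
    have hq : Nat.card (G ⧸ N) ≤ n := by
      have h1 := Subgroup.card_eq_card_quotient_mul_card_subgroup N
      have h2 : 1 < Nat.card N := by
        rw [Subgroup.one_lt_card_iff_ne_bot]; exact hN1
      have h3 : 0 < Nat.card (G ⧸ N) := Nat.card_pos
      nlinarith
    by_cases hpN : p ∣ Nat.card N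
    swap
    · exact bound_step_coprime N hpN (ih (G ⧸ N) hq) P
    by_cases hab : ∀ x ∈ N, ∀ y ∈ N, Commute x y
    · obtain ⟨q, hq', hqN, -⟩ := Lib.MinNormalNonabelian.abelian_structure N hN1 hmin hab
      have : Fact q.Prime := ⟨hq'⟩
      have hpq : p = q := by
        obtain ⟨k, hk⟩ := (IsPGroup.iff_card (p := q)).1 hqN
        rw [hk] at hpN
        exact (Nat.prime_dvd_prime_iff_eq hp.out hq').1 (hp.out.dvd_of_dvd_pow hpN)
      subst hpq
      exact bound_step_pgroup N hqN hN1 (fun a ha b hb => (hab a ha b hb).eq)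
        (fun T _ => IM_of_fact hIM _) (IM_of_fact hIM _) (ih (G ⧸ N) hq) P
    · exact bound_step_nonabelian hDl N hN1 hmin hab hpN (ih (G ⧸ N) hq) P

/-- **The derived length of a Sylow `p`-subgroup is at most one more than the number of irreducible
characters of degree divisible by `p`**, given the facts on the simple groups. -/
theorem red (hIM : Cfsg.Agent.H671.H5.FactIM.{u}) (hDl : FactDl.{u}) {G : Type u} [Group G]
    [Finite G] (p : ℕ) [Fact p.Prime] (P : Sylow p G) :
    derivedSeries ↥(P : Subgroup G)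
      (Nat.card {χ : Cfsg.IrrCharacter G // p ∣ Cfsg.charDegree (χ : G → ℂ)} + 1) = ⊥ :=
  red_aux hIM hDl _ G le_rfl P

end Cfsg.Agent.H596.DerLen

private theorem dce_7107eca39822 : _root_.True := by
  try have : _root_.True := by simp only [_root_.Cfsg.Agent.H670.PSing.nSing.eq_1]
  exact _root_.True.intro
end

-- part: H246/Dl/Defs
section
set_option linter.all false
open scoped Cfsg.Agent.FastGrp

/-!
# The derived length of a Sylow subgroup of a simple group (S4769): interface (helper246)

* `DlLe p d S` : the Sylow `p`-subgroups of `S` have derived length at most `d`;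
* `Many p m S` : `S` has `m` irreducible characters of degree divisible by `p`, pairwise not conjugate
  under automorphisms of `S`;
* `Row p S` : `DlLe p m S` and `Many p m S` for some `m`;
* `Row.concl` : `Row p S` implies the conclusion of S4769 for `(S, p)`;
* `Row.of_im`, `Row.of_two` : derived length at most one (Itô-Michler) and at most two (`TwoOr`);
* `Many.of_degrees`, `Many.of_index`, `Many.of_inner` : criteria.
-/

set_option autoImplicit false

open Cfsg

namespace Cfsg.Agent.H246.Dl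

open Cfsg.Agent.Characters.Core

universe u v

section defs

variable (p : ℕ) (d : ℕ) (S : Type u) [Group S]

/-- The Sylow `p`-subgroups of `S` have derived length at most `d`. -/
def DlLe : Prop := ∀ P : Sylow p S, derivedSeries ↥(P : Subgroup S) d = ⊥

/-- `m` irreducible characters of degree divisible by `p`, pairwise not conjugate under `Aut S`. -/
def Many (m : ℕ) : Prop :=
  ∃ χ : Fin m → IrrCharacter S, (∀ i, p ∣ charDegree (χ i : S → ℂ)) ∧
    ∀ i j, i ≠ j → ∀ σ : S ≃* S, ∃ g, (χ i : S → ℂ) (σ g) ≠ (χ j : S → ℂ) g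

/-- The row of S4769. -/
def Row : Prop := ∃ m, DlLe p m S ∧ Many p S m

end defs

variable {p : ℕ} {S : Type u} [Group S]

theorem derivedSeries_eq_bot_mono {G : Type*} [Group G] {a b : ℕ} (h : a ≤ b) (ha : derivedSeries G a = ⊥) :
    derivedSeries G b = ⊥ := by
  rw [eq_bot_iff, ← ha]
  exact derivedSeries_antitone G h

theorem DlLe.mono {d e : ℕ} (h : DlLe p d S) (hde : d ≤ e) : DlLe p e S :=
  fun P => derivedSeries_eq_bot_mono hde (h P)

theorem Many.mono {m k : ℕ} (h : Many p S m) (hk : k ≤ m) : Many p S k := by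
  obtain ⟨χ, h1, h2⟩ := h
  exact ⟨fun i => χ (Fin.castLE hk i), fun i => h1 _, fun i j hij => h2 _ _ (by simpa using hij)⟩

theorem Row.of_le {d m : ℕ} (h : DlLe p d S) (hm : Many p S m) (hdm : d ≤ m) : Row p S :=
  ⟨m, h.mono hdm, hm⟩

/-- `Many` from a list of inequivalent characters. -/
theorem Many.card_le [Finite S] {m : ℕ} (h : Many p S m) (T : Finset (S → ℂ))
    (hT : ∀ χ : IrrCharacter S, p ∣ charDegree (χ : S → ℂ) → ∃ ψ ∈ T, ∃ σ : S ≃* S, ∀ g : S, (χ : S → ℂ) g = ψ (σ g)) :
    m ≤ T.card := by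
  classical
  obtain ⟨χ, h1, h2⟩ := h
  choose ψ hψ σ hσ using fun i => hT (χ i) (h1 i)
  have hinj : Function.Injective ψ := by
    intro i j hij
    by_contra hne
    obtain ⟨g, hg⟩ := h2 i j hne ((σ j).trans (σ i).symm)
    apply hg
    rw [hσ i, hσ j, hij]
    simp
  have h3 : (Finset.univ.image ψ).card = m := by
    rw [Finset.card_image_of_injective _ hinj, Finset.card_univ, Fintype.card_fin]
  rw [← h3]
  exact Finset.card_le_card (by
    intro x hx
    obtain ⟨i, -, rfl⟩ := Finset.mem_image.1 hx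
    exact hψ i)

/-- **The conclusion of S4769.** -/
theorem Row.concl [Finite S] (h : Row p S) (P : Sylow p S) (T : Finset (S → ℂ))
    (hT : ∀ χ : IrrCharacter S, p ∣ charDegree (χ : S → ℂ) → ∃ ψ ∈ T, ∃ σ : S ≃* S, ∀ g : S, (χ : S → ℂ) g = ψ (σ g)) :
    derivedSeries ↥(P : Subgroup S) T.card = ⊥ := by
  obtain ⟨m, h1, h2⟩ := h
  exact derivedSeries_eq_bot_mono (h2.card_le T hT) (h1 P)

/-- The rows give `FactDl`. -/
theorem factDl (h : ∀ (S : Type u) [Group S] [Finite S] [IsSimpleGroup S], ¬ IsMulCommutative S →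
    ∀ p : ℕ, p.Prime → p ∣ Nat.card S → Row p S) : H596.DerLen.FactDl.{u} := by
  intro S _ _ _ hnc p hp hd P T hT
  exact (h S hnc p hp.out hd).concl P T hT

/-! ### transport -/

theorem DlLe.of_equiv {S' : Type v} [Group S'] [Finite S] {d : ℕ} [hp : Fact p.Prime] (e : S ≃* S')
    (h : DlLe p d S') : DlLe p d S := by
  intro P
  have hQ : derivedSeries ↥((P : Subgroup S).map e.toMonoidHom) d = ⊥ :=
    h (P.mapSurjective (f := e.toMonoidHom) e.surjective)
  let f : ↥(P : Subgroup S) ≃* ↥((P : Subgroup S).map e.toMonoidHom) := e.subgroupMap (P : Subgroup S)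
  have h1 : (derivedSeries ↥(P : Subgroup S) d).map f.toMonoidHom ≤
      derivedSeries ↥((P : Subgroup S).map e.toMonoidHom) d :=
    map_derivedSeries_le_derivedSeries f.toMonoidHom d
  rw [hQ, le_bot_iff, Subgroup.map_eq_bot_iff] at h1
  rw [eq_bot_iff]
  intro x hx
  have h2 := h1 hx
  rw [MonoidHom.mem_ker] at h2
  rw [Subgroup.mem_bot]
  exact f.injective (by rw [map_one]; exact h2)

theorem Many.of_equiv {S' : Type v} [Group S'] {m : ℕ} (e : S ≃* S') (h : Many p S' m) : Many p S m := by
  obtain ⟨χ, h1, h2⟩ := h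
  refine ⟨fun i => ⟨(χ i : S' → ℂ) ∘ e, isIrr_comp e.toMonoidHom e.surjective (χ i).2⟩, fun i => ?_, fun i j hij σ => ?_⟩
  · have h3 : charDegree ((χ i : S' → ℂ) ∘ e) = charDegree (χ i : S' → ℂ) := by
      unfold charDegree
      rw [Function.comp_apply, map_one]
    show p ∣ charDegree ((χ i : S' → ℂ) ∘ e)
    rw [h3]
    exact h1 i
  · obtain ⟨g, hg⟩ := h2 i j hij ((e.symm.trans σ).trans e)
    refine ⟨e.symm g, fun h4 => hg ?_⟩
    change (χ i : S' → ℂ) (e (σ (e.symm g))) = (χ j : S' → ℂ) (e (e.symm g)) at h4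
    rw [e.apply_symm_apply] at h4
    exact h4

theorem Row.of_equiv {S' : Type v} [Group S'] [Finite S] [hp : Fact p.Prime] (e : S ≃* S') (h : Row p S') :
    Row p S := by
  obtain ⟨m, h1, h2⟩ := h
  exact ⟨m, h1.of_equiv e, h2.of_equiv e⟩

/-- `DlLe` through a homomorphism which is injective on a Sylow subgroup. -/
theorem DlLe.of_hom {S' : Type v} [Group S'] {d : ℕ} (f : S →* S')
    (hf : ∀ g : S, f g = 1 → (∃ k, g ^ p ^ k = 1) → g = 1)
    (h : ∀ Q : Subgroup S', IsPGroup p Q → derivedSeries ↥Q d = ⊥) : DlLe p d S := by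
  intro P
  have h0 := h ((P : Subgroup S).map f) (P.isPGroup'.map f)
  let g : ↥(P : Subgroup S) →* ↥((P : Subgroup S).map f) := f.subgroupMap (P : Subgroup S)
  have hg : Function.Injective g := by
    rw [injective_iff_map_eq_one]
    intro x hx
    have h1 : f x = 1 := congrArg Subtype.val hx
    apply Subtype.ext
    obtain ⟨k, hk⟩ := P.isPGroup' x
    exact hf x h1 ⟨k, by simpa using congrArg Subtype.val hk⟩
  have h1 : (derivedSeries ↥(P : Subgroup S) d).map g ≤ derivedSeries ↥((P : Subgroup S).map f) d :=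
    map_derivedSeries_le_derivedSeries g d
  rw [h0, le_bot_iff, Subgroup.map_eq_bot_iff] at h1
  rw [eq_bot_iff]
  intro x hx
  have h2 := h1 hx
  rw [MonoidHom.mem_ker] at h2
  rw [Subgroup.mem_bot]
  exact hg (by rw [map_one]; exact h2)

/-! ### small derived length -/

/-- Derived length at most one: Itô-Michler. -/
theorem Row.of_im (h1 : DlLe p 1 S) (h : H33.IM p S) : Row p S := by
  obtain ⟨χ, hχ⟩ := h
  exact ⟨1, h1, fun _ => χ, fun _ => hχ, fun i j hij => absurd (Subsingleton.elim i j) hij⟩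

/-- Derived length at most two. -/
theorem Row.of_twoStrict (h1 : DlLe p 2 S) (h : H596.OneFacts.Two p S) : Row p S := by
  obtain ⟨α, β, ha, hb, hσ⟩ := h
  refine ⟨2, h1, ![α, β], ?_, ?_⟩
  · intro i
    fin_cases i
    · exact ha
    · exact hb
  · intro i j hij σ
    fin_cases i <;> fin_cases j
    · exact absurd rfl hij
    · exact hσ σ
    · obtain ⟨s, hs⟩ := hσ σ.symm
      refine ⟨σ.symm s, fun h2 => hs ?_⟩
      change (β : S → ℂ) (σ (σ.symm s)) = (α : S → ℂ) (σ.symm s) at h2
      rw [σ.apply_symm_apply] at h2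
      exact h2.symm
    · exact absurd rfl hij

/-! ### criteria for `Many` -/

/-- Inequivalence from an invariant. -/
theorem Many.of_inv {m : ℕ} {β : Type*} (χ : Fin m → IrrCharacter S) (hχ : ∀ i, p ∣ charDegree (χ i : S → ℂ))
    (f : (S → ℂ) → β) (hf : ∀ (ψ : S → ℂ) (σ : S ≃* S), f (ψ ∘ σ) = f ψ)
    (hinj : Function.Injective fun i => f (χ i : S → ℂ)) : Many p S m := by
  refine ⟨χ, hχ, fun i j hij σ => ?_⟩
  by_contra hcon
  push Not at hcon
  apply hij
  apply hinj
  have h1 : ((χ i : S → ℂ) ∘ σ) = (χ j : S → ℂ) := funext hcon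
  have h2 := hf (χ i : S → ℂ) σ
  rw [h1] at h2
  exact h2.symm

/-- `m` different degrees divisible by `p`. -/
theorem Many.of_degrees {m : ℕ} (χ : Fin m → IrrCharacter S) (hχ : ∀ i, p ∣ charDegree (χ i : S → ℂ))
    (hinj : Function.Injective fun i => charDegree (χ i : S → ℂ)) : Many p S m := by
  refine Many.of_inv χ hχ charDegree (fun ψ σ => ?_) hinj
  unfold charDegree
  rw [Function.comp_apply, map_one]

/-- A set of `m` different degrees divisible by `p`. -/
theorem Many.of_finset {D : Finset ℕ} (h : ∀ d ∈ D, p ∣ d ∧ ∃ χ : S → ℂ, IsIrrCharacter S χ ∧ χ 1 = d) :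
    Many p S D.card := by
  classical
  let e := D.equivFin
  choose! hd χ hχ h1 using h
  have hdeg : ∀ i, charDegree (χ (e.symm i)) = (e.symm i : ℕ) := fun i =>
    H670.PSing.charDegree_eq_of (h1 _ (e.symm i).2)
  refine Many.of_degrees (fun i => ⟨χ (e.symm i), hχ _ (e.symm i).2⟩) (fun i => ?_) ?_
  · show p ∣ charDegree (χ (e.symm i))
    rw [hdeg]
    exact hd _ (e.symm i).2
  · intro i j hij
    have h2 : (e.symm i : ℕ) = (e.symm j : ℕ) := by
      rw [← hdeg i, ← hdeg j]
      exact hij
    exact e.symm.injective (Subtype.ext h2)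

end Cfsg.Agent.H246.Dl
end

-- part: H759/Dl/Small
section
set_option linter.all false
open scoped Cfsg.Agent.FastGrp

-- part: H759/Dl/Asm
section
/-!
# The derived length of a Sylow subgroup of a simple group (S4769, S4767): assembly (helper759)

* `RowF P` : the rows of the simple groups of an isomorphism type;
* `Missing` : the rows of all the families;
* `dlLe_one_of_card` : Sylow `p`-subgroups of order at most `p²`;
* `row_of_two` : `DlLe p 2` and `TwoOr p` give the row;
* `factDl_of_missing`.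
-/

set_option autoImplicit false

open Cfsg

namespace Cfsg.Agent.H759.Dl

open Cfsg.Agent.H246.Dl Cfsg.Agent.H596.OneFacts

universe u

/-- The rows of an isomorphism type. -/
def RowF (P : ∀ (S : Type u) [Group S], Prop) : Prop :=
  ∀ (S : Type u) [Group S] [Finite S] [IsSimpleGroup S], P S → ∀ {p : ℕ}, p.Prime → p ∣ Nat.card S → Row p S

/-- `PSL_n(q)`, `n ≥ 3`. -/
def IsLn (S : Type u) [Group S] : Prop :=
  ∃ (F : Type) (_ : Field F) (_ : Fintype F) (n : ℕ), 3 ≤ n ∧
    Nonempty (S ≃* Matrix.ProjectiveSpecialLinearGroup (Fin n) F)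

/-- The rows. -/
structure Missing : Prop where
  alt : RowF.{u} (fun S => IsAlternating S)
  l2 : RowF.{u} (fun S => H671.H5.IsL2 S)
  ln : RowF.{u} (fun S => IsLn S)
  psp : RowF.{u} (fun S => IsPSp S)
  psu : RowF.{u} (fun S => IsPSU S)
  odd : RowF.{u} (fun S => IsPOmegaOdd S)
  plus : RowF.{u} (fun S => IsPOmegaPlus S)
  minus : RowF.{u} (fun S => IsPOmegaMinus S)
  g2 : RowF.{u} (fun S => Lie.IsoChevG2 S)
  f4 : RowF.{u} (fun S => Lie.IsoF4 S)
  e6 : RowF.{u} (fun S => Lie.IsoChevE6 S)
  e7 : RowF.{u} (fun S => Lie.IsoE7 S)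
  e8 : RowF.{u} (fun S => Lie.IsoE8 S)
  te6 : RowF.{u} (fun S => Lie.Iso2E6 S)
  td4 : RowF.{u} (fun S => Lie.Iso3D4 S)
  sz : RowF.{u} (fun S => Lie.IsoSuzuki S)
  ree : RowF.{u} (fun S => Lie.IsoRee S)
  tf4 : RowF.{u} (fun S => Lie.Iso2F4 S)
  tits : RowF.{u} (fun S => Lie.IsoTits S)
  spor : RowF.{u} (fun S => IsSporadicGroup S)

/-- The sporadic rows. -/
structure MissingSpor : Prop where
  m11 : RowF.{u} (fun S => Spor.IsoM11 S)
  m12 : RowF.{u} (fun S => Spor.IsoM12 S)
  m22 : RowF.{u} (fun S => Spor.IsoM22 S)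
  m23 : RowF.{u} (fun S => Spor.IsoM23 S)
  m24 : RowF.{u} (fun S => Spor.IsoM24 S)
  j1 : RowF.{u} (fun S => Spor.IsoJ1 S)
  j2 : RowF.{u} (fun S => Spor.IsoJ2 S)
  j3 : RowF.{u} (fun S => Spor.IsoJ3 S)
  j4 : RowF.{u} (fun S => Spor.IsoJ4 S)
  co1 : RowF.{u} (fun S => Spor.IsoCo1 S)
  co2 : RowF.{u} (fun S => Spor.IsoCo2 S)
  co3 : RowF.{u} (fun S => Spor.IsoCo3 S)
  mcl : RowF.{u} (fun S => Spor.IsoMcL S)
  hs : RowF.{u} (fun S => Spor.IsoHS S)
  suz : RowF.{u} (fun S => Spor.IsoSuz S)
  he : RowF.{u} (fun S => Spor.IsoHe S)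
  ru : RowF.{u} (fun S => Spor.IsoRu S)
  on : RowF.{u} (fun S => Spor.IsoON S)
  ly : RowF.{u} (fun S => Spor.IsoLy S)
  fi22 : RowF.{u} (fun S => Spor.IsoFi22 S)
  fi23 : RowF.{u} (fun S => Spor.IsoFi23 S)
  fi24 : RowF.{u} (fun S => Spor.IsoFi24' S)
  hn : RowF.{u} (fun S => Spor.IsoHN S)
  th : RowF.{u} (fun S => Spor.IsoTh S)
  b : RowF.{u} (fun S => Spor.IsoB S)
  m : RowF.{u} (fun S => Spor.IsoM S)

theorem spor_of (M : MissingSpor.{u}) : RowF.{u} (fun S => IsSporadicGroup S) := by
  intro S _ _ _ h p hp hd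
  rcases h with h | h | h | h | h | h | h | h | h | h | h | h | h | h | h | h | h | h | h | h | h |
    h | h | h | h | h
  · exact M.m11 S h hp hd
  · exact M.m12 S h hp hd
  · exact M.m22 S h hp hd
  · exact M.m23 S h hp hd
  · exact M.m24 S h hp hd
  · exact M.j1 S h hp hd
  · exact M.j2 S h hp hd
  · exact M.j3 S h hp hd
  · exact M.j4 S h hp hd
  · exact M.co1 S h hp hd
  · exact M.co2 S h hp hd
  · exact M.co3 S h hp hd
  · exact M.mcl S h hp hd
  · exact M.hs S h hp hd
  · exact M.suz S h hp hd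
  · exact M.he S h hp hd
  · exact M.ru S h hp hd
  · exact M.on S h hp hd
  · exact M.ly S h hp hd
  · exact M.fi22 S h hp hd
  · exact M.fi23 S h hp hd
  · exact M.fi24 S h hp hd
  · exact M.hn S h hp hd
  · exact M.th S h hp hd
  · exact M.b S h hp hd
  · exact M.m S h hp hd

theorem psl_of (M : Missing.{u}) : RowF.{u} (fun S => IsPSL S) := by
  intro S _ _ _ h p hp hd
  obtain ⟨F, iF, iT, n, hn, h4, he⟩ := h
  rcases Nat.lt_or_ge n 3 with h3 | h3
  · obtain rfl : n = 2 := by omega
    exact M.l2 S ⟨F, iF, iT, h4 rfl, he⟩ hp hd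
  · exact M.ln S ⟨F, iF, iT, n, h3, he⟩ hp hd

/-- All known simple groups. -/
theorem row_known (M : Missing.{u}) {S : Type u} [Group S] [Finite S] [IsSimpleGroup S] (h : IsKnownSimple' S)
    (hc : ¬ IsMulCommutative S) {p : ℕ} (hp : p.Prime) (hd : p ∣ Nat.card S) : Row p S := by
  rcases h with h | h | h | h | h | h | h | h | h | h
  · exfalso
    apply hc
    have : Fact (Nat.card S).Prime := ⟨h⟩
    have h1 : IsCyclic S := isCyclic_of_prime_card rfl
    exact ⟨⟨fun a b => (IsCyclic.commGroup (α := S)).mul_comm a b⟩⟩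
  · exact M.alt S h hp hd
  · exact psl_of M S h hp hd
  · exact M.psp S h hp hd
  · exact M.psu S h hp hd
  · exact M.odd S h hp hd
  · exact M.plus S h hp hd
  · exact M.minus S h hp hd
  · rcases h with h | h | h | h | h | h | h | h | h | h | h
    · exact M.g2 S h hp hd
    · exact M.f4 S h hp hd
    · exact M.e6 S h hp hd
    · exact M.e7 S h hp hd
    · exact M.e8 S h hp hd
    · exact M.te6 S h hp hd
    · exact M.td4 S h hp hd
    · exact M.sz S h hp hd
    · exact M.ree S h hp hd
    · exact M.tf4 S h hp hd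
    · exact M.tits S h hp hd
  · exact M.spor S h hp hd

/-- **`FactDl` from the rows.** -/
theorem factDl_of_missing (M : Missing.{u}) (hK : ∀ (X : Type u) [Group X] [Finite X] [IsSimpleGroup X], IsKnownSimple' X) :
    H596.DerLen.FactDl.{u} :=
  factDl fun S _ _ _ hc _ hp hd => row_known M (hK S) hc hp hd

/-! ### Small Sylow subgroups -/

/-- commutative Sylow subgroups -/
theorem dlLe_one_of_comm {p : ℕ} {S : Type u} [Group S]
    (h : ∀ P : Sylow p S, ∀ a ∈ (P : Subgroup S), ∀ b ∈ (P : Subgroup S), a * b = b * a) : DlLe p 1 S := by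
  intro P
  rw [derivedSeries_one, commutator_eq_bot_iff_center_eq_top, eq_top_iff]
  intro x _
  rw [Subgroup.mem_center_iff]
  intro y
  exact Subtype.ext (h P y y.2 x x.2)

/-- Sylow subgroups of order at most `p²` -/
theorem dlLe_one_of_card {p : ℕ} (hp : p.Prime) {S : Type u} [Group S] [Finite S] (h : ¬ p ^ 3 ∣ Nat.card S) :
    DlLe p 1 S := by
  have : Fact p.Prime := ⟨hp⟩
  refine dlLe_one_of_comm fun P => ?_
  obtain ⟨n, hn⟩ := IsPGroup.iff_card.1 P.isPGroup'
  have hn3 : n < 3 := by
    by_contra h3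
    exact h ((pow_dvd_pow p (not_lt.1 h3)).trans (hn ▸ Subgroup.card_subgroup_dvd_card _))
  have key : ∀ a b : (P : Subgroup S), a * b = b * a := by
    interval_cases n
    · have : Subsingleton (P : Subgroup S) := (Nat.card_eq_one_iff_unique.1 (by simpa only [_root_.Subgroup.card_eq_one, _root_.pow_zero] using hn)).1
      exact fun a b => Subsingleton.elim _ _
    · have h1 : IsCyclic (P : Subgroup S) := isCyclic_of_prime_card (p := p) (by simpa only [_root_.pow_one] using hn)
      exact (IsCyclic.commGroup (α := (P : Subgroup S))).mul_comm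
    · exact (IsPGroup.commGroupOfCardEqPrimeSq (p := p) hn).mul_comm
  intro a ha b hb
  exact congrArg Subtype.val (key ⟨a, ha⟩ ⟨b, hb⟩)

/-- Derived length at most two, from `TwoOr`. -/
theorem row_of_two {p : ℕ} {S : Type u} [Group S] (h2 : DlLe p 2 S) (ht : TwoOr p S) (him : H33.IM p S)
    (h1 : DefL2 p S ∨ (p = 3 ∧ (Cfsg.IsM11 S ∨ Nonempty (S ≃* alternatingGroup (Fin 5)) ∨ L28 S)) → DlLe p 1 S) :
    Row p S := by
  rcases ht with h | h
  · exact Row.of_twoStrict h2 h
  · exact Row.of_im (h1 h) him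

end Cfsg.Agent.H759.Dl
end

-- part: H103/ThreeP/PslFacts
section
/-!
# `PSL₂(q)`, `q` odd: the Sylow subgroups of the defining characteristic are abelian and trivial intersection,
and there is an abelian subgroup of order `(q - 1) / 2`
-/

set_option autoImplicit false

open Cfsg

namespace Cfsg.Agent.H103.ThreeP.PslFacts

open Matrix Cfsg.Agent.ClassicalGeometry.PSL2Basic Cfsg.Agent.LieClassical.SLTwoUnipotent

variable {F : Type*} [Field F] [Fintype F]

/-- The Sylow subgroups in the defining characteristic are abelian. -/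
theorem sylow_comm' (p : ℕ) [Fact p.Prime] [CharP F p] (P : Sylow p (ProjectiveSpecialLinearGroup (Fin 2) F)) :
    ∀ a ∈ P, ∀ b ∈ P, a * b = b * a := by
  set π := QuotientGroup.mk' (Subgroup.center (Matrix.SpecialLinearGroup (Fin 2) F)) with hπ
  have hsurj : Function.Surjective π := QuotientGroup.mk'_surjective _
  set P₀ := (upperUnipSylowSL F p).mapSurjective hsurj with hP₀
  obtain ⟨g, hg⟩ := MulAction.exists_smul_eq (ProjectiveSpecialLinearGroup (Fin 2) F) P₀ P
  have hmem : ∀ a ∈ P, ∃ A ∈ upperUnipSL F, a = g * π A * g⁻¹ := by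
    intro a ha
    have ha' : a ∈ (P : Subgroup (ProjectiveSpecialLinearGroup (Fin 2) F)) := ha
    rw [← hg, Sylow.coe_subgroup_smul, Subgroup.mem_pointwise_smul_iff_inv_smul_mem, ← map_inv,
      MulAut.smul_def, MulAut.conj_apply, inv_inv] at ha'
    obtain ⟨A, hA, hA'⟩ := ha'
    refine ⟨A, hA, ?_⟩
    rw [hA']
    group
  intro a ha b hb
  obtain ⟨A, hA, rfl⟩ := hmem a ha
  obtain ⟨B, hB, rfl⟩ := hmem b hb
  have h1 : A * B = B * A := by
    rw [eq_u_of_mem_upperUnipSL hA, eq_u_of_mem_upperUnipSL hB, ← u_add, ← u_add, add_comm]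
  calc g * π A * g⁻¹ * (g * π B * g⁻¹) = g * (π A * π B) * g⁻¹ := by group
    _ = g * (π B * π A) * g⁻¹ := by rw [← map_mul, h1, map_mul]
    _ = _ := by group

variable {G : Type*} [Group G] [Finite G] (e : G ≃* ProjectiveSpecialLinearGroup (Fin 2) F)

include e

end Cfsg.Agent.H103.ThreeP.PslFacts
end

-- part: H759/Dl/Small
section
/-!
# S4769: the exceptions of `TwoOr` have abelian Sylow subgroups (helper759)

* `dlLe_exc` : `DlLe p 1 S` in the exceptional cases of `TwoOr`;
* `row_of_dl_two` : `DlLe p 2 S`, `FactTwo` and `FactIM` give the row of `S`;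
* `row_of_card` : the same for Sylow subgroups of order at most `p²`.
-/

set_option autoImplicit false

open Cfsg

namespace Cfsg.Agent.H759.Dl

open Cfsg.Agent.H246.Dl Cfsg.Agent.H596.OneFacts

universe u

theorem dlLe_defL2 {p : ℕ} (hp : p.Prime) {S : Type u} [Group S] [Finite S] (h : DefL2 p S) : DlLe p 1 S := by
  obtain ⟨F, _, _, hF, -, ⟨e⟩⟩ := h
  have : Fact p.Prime := ⟨hp⟩
  exact DlLe.of_equiv e (dlLe_one_of_comm fun P => H103.ThreeP.PslFacts.sylow_comm' p P)

theorem card_l28 {S : Type u} [Group S] (h : L28 S) : Nat.card S = 504 := by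
  obtain ⟨F, _, _, hF, ⟨e⟩⟩ := h
  rw [Nat.card_congr e.toEquiv]
  have := SmallSimple.PSLTwoPart.card_psl_two_even (F := F) (by rw [hF]; decide)
  rw [this, hF]
  norm_num

/-- The exceptional cases of `TwoOr`. -/
theorem dlLe_exc {p : ℕ} (hp : p.Prime) {S : Type u} [Group S] [Finite S]
    (h : DefL2 p S ∨ (p = 3 ∧ (Cfsg.IsM11 S ∨ Nonempty (S ≃* alternatingGroup (Fin 5)) ∨ L28 S))) : DlLe p 1 S := by
  rcases h with h | ⟨rfl, h | ⟨⟨e⟩⟩ | h⟩
  · exact dlLe_defL2 hp h
  · refine dlLe_one_of_card hp ?_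
    rw [h.2]; norm_num
  · refine dlLe_one_of_card hp ?_
    rw [Nat.card_congr e.toEquiv, nat_card_alternatingGroup]
    simp [Nat.factorial]
  · refine dlLe_one_of_card hp ?_
    rw [card_l28 h]; norm_num

/-- Derived length at most two. -/
theorem row_of_dl_two (T : FactTwo.{u}) (I : H671.H5.FactIM.{u}) {p : ℕ} {S : Type u} [Group S] [Finite S]
    [IsSimpleGroup S] (hc : ¬ IsMulCommutative S) (hp : p.Prime) (hd : p ∣ Nat.card S) (h : DlLe p 2 S) : Row p S :=
  row_of_two h (T S hc p hp hd) (I S hc p hp hd) (dlLe_exc hp)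

/-- Derived length at most one. -/
theorem row_of_dl_one (I : H671.H5.FactIM.{u}) {p : ℕ} {S : Type u} [Group S] [Finite S]
    [IsSimpleGroup S] (hc : ¬ IsMulCommutative S) (hp : p.Prime) (hd : p ∣ Nat.card S) (h : DlLe p 1 S) : Row p S :=
  Row.of_im h (I S hc p hp hd)

/-- Sylow subgroups of order at most `p²`. -/
theorem row_of_card (I : H671.H5.FactIM.{u}) {p : ℕ} {S : Type u} [Group S] [Finite S]
    [IsSimpleGroup S] (hc : ¬ IsMulCommutative S) (hp : p.Prime) (hd : p ∣ Nat.card S) (h : ¬ p ^ 3 ∣ Nat.card S) :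
    Row p S := row_of_dl_one I hc hp hd (dlLe_one_of_card hp h)

end Cfsg.Agent.H759.Dl
end
end
end
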